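import Cfsg.Agent.Lib.Char.Monomial
import Cfsg.Agent.Lib.Splitting.Nilpotent

/-!
# Groups with an abelian normal subgroup and nilpotent quotient are monomial
-/

set_option autoImplicit false
set_option linter.style.haveILetI false

namespace CfsgLib.TwoDegrees

open Module Representation Cfsg CfsgLib.Char
open scoped ComplexConjugate

universe u

/-- A group with an abelian normal subgroup and nilpotent quotient is monomial. -/
theorem monomial_aux : ∀ (n : ℕ) (G : Type u) [Group G] [Fintype G] (N : Subgroup G) [N.Normal],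
    (∀ a ∈ N, ∀ b ∈ N, a * b = b * a) → Group.IsNilpotent (G ⧸ N) →
    Nat.card G = n → ∀ χ : G → ℂ, IsIrrCharacter G χ →
      ∃ (H : Subgroup G) (lam : H →* ℂˣ), χ = indFun H (fun h => (lam h : ℂ)) := by
  classical
  intro n
  induction n using Nat.strong_induction_on with
  | _ n ih => ?_
  intro G _ _ N _ hNab hNq hn χ hχ
  have hcl := isClassFunction_of_isCharacter (isCharacter_of_isIrr hχ)
  obtain ⟨d, ρ, hρ, rfl⟩ := hχ
  have hd : 0 < finrank ℂ (Fin d → ℂ) := finrank_pos_of_irreducible ρ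
  have hV : Nontrivial (Fin d → ℂ) := Module.nontrivial_of_finrank_pos (R := ℂ) hd
  let Z : Subgroup G :=
    { carrier := {g | ∃ c : ℂ, ρ g = c • LinearMap.id}
      one_mem' := ⟨1, by rw [map_one, one_smul]; rfl⟩
      mul_mem' := fun {a b} ⟨c, hc⟩ ⟨e, he⟩ => ⟨c * e, by
        rw [map_mul, hc, he]; ext v; simp [mul_assoc, mul_left_comm]⟩
      inv_mem' := fun {a} ⟨c, hc⟩ => by
        have h1 : ρ a⁻¹ * ρ a = 1 := by rw [← map_mul, inv_mul_cancel, map_one]
        have hc0 : c ≠ 0 := fun e => by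
          rw [hc, e, zero_smul, mul_zero] at h1
          exact zero_ne_one h1
        refine ⟨c⁻¹, ?_⟩
        rw [hc, mul_smul_comm] at h1
        rw [← one_smul ℂ (ρ a⁻¹), ← inv_mul_cancel₀ hc0, mul_smul]
        exact congrArg (c⁻¹ • ·) h1 }
  by_cases hZ : Z = ⊤
  · have h1 : finrank ℂ (Fin d → ℂ) ∣ (⊤ : Subgroup G).index :=
      degree_dvd_index_of_scalar ρ ⊤ fun z _ => show z ∈ Z from hZ ▸ Subgroup.mem_top z
    rw [Subgroup.index_top, Nat.dvd_one] at h1
    have hone : ρ.character 1 = 1 := by rw [Representation.char_one, h1, Nat.cast_one]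
    refine ⟨⊤, (linearHom (isCharacter_character ρ) hone).comp (⊤ : Subgroup G).subtype, ?_⟩
    exact (indFun_top hcl).symm
  have hZn : Z.Normal := ⟨fun z ⟨c, hc⟩ g => ⟨c, by
    rw [map_mul, map_mul, hc]
    rw [mul_smul_comm, smul_mul_assoc]
    congr 1
    rw [show (LinearMap.id : (Fin d → ℂ) →ₗ[ℂ] _) = 1 from rfl, mul_one, ← map_mul, mul_inv_cancel,
      map_one]⟩⟩
  obtain ⟨A, hAn, hab, x, hxA, hxZ⟩ : ∃ A : Subgroup G, A.Normal ∧
      (∀ a ∈ A, ∀ b ∈ A, ρ (a * b) = ρ (b * a)) ∧ ∃ x ∈ A, x ∉ Z := by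
    by_cases hNZ : N ≤ Z
    swap
    · obtain ⟨x, hx, hxZ⟩ := SetLike.not_le_iff_exists.mp hNZ
      exact ⟨N, inferInstance, fun a ha b hb => by rw [hNab a ha b hb], x, hx, hxZ⟩
    haveI := hNq
    haveI : Group.IsNilpotent (G ⧸ Z) := Group.nilpotent_of_surjective
      (QuotientGroup.map N Z (MonoidHom.id G) hNZ)
      (QuotientGroup.map_surjective_of_surjective _ _ _ (by exact QuotientGroup.mk_surjective) _)
    have : Nontrivial (G ⧸ Z) := QuotientGroup.nontrivial_iff.mpr hZ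
    have hcne : Nontrivial (Subgroup.center (G ⧸ Z)) := by
      rw [Subgroup.nontrivial_iff_ne_bot]
      exact center_ne_bot_of_isNilpotent (G ⧸ Z)
    obtain ⟨⟨xb, hxb⟩, hxne⟩ := exists_ne (1 : Subgroup.center (G ⧸ Z))
    obtain ⟨x, rfl⟩ := QuotientGroup.mk'_surjective Z xb
    have hxZ : x ∉ Z := fun h => hxne (Subtype.ext ((QuotientGroup.eq_one_iff x).mpr h))
    set A := (Subgroup.zpowers (QuotientGroup.mk' Z x)).comap (QuotientGroup.mk' Z) with hA
    have hAn : A.Normal := by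
      have : (Subgroup.zpowers (QuotientGroup.mk' Z x)).Normal := ⟨fun a ha g => by
        have hac : a ∈ Subgroup.center (G ⧸ Z) := (Subgroup.zpowers_le.mpr hxb) ha
        rw [Subgroup.mem_center_iff.mp hac g, mul_inv_cancel_right]; exact ha⟩
      exact Subgroup.Normal.comap this _
    have hxA : x ∈ A := Subgroup.mem_zpowers _
    have hform : ∀ a ∈ A, ∃ (i : ℤ) (c : ℂ), ρ a = c • ρ (x ^ i) := by
      rintro a ⟨i, hi⟩
      change (QuotientGroup.mk' Z x) ^ i = QuotientGroup.mk' Z a at hi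
      rw [← map_zpow, QuotientGroup.mk'_eq_mk'] at hi
      obtain ⟨z, ⟨c, hc⟩, rfl⟩ := hi
      exact ⟨i, c, by rw [map_mul, hc, mul_smul_comm]; rfl⟩
    have hab : ∀ a ∈ A, ∀ b ∈ A, ρ (a * b) = ρ (b * a) := by
      intro a ha b hb
      obtain ⟨i, c, hc⟩ := hform a ha
      obtain ⟨j, e, he⟩ := hform b hb
      rw [map_mul, map_mul, hc, he, smul_mul_smul_comm, smul_mul_smul_comm, mul_comm c e, ← map_mul,
        ← map_mul, ← zpow_add, ← zpow_add, add_comm]
    exact ⟨A, hAn, hab, x, hxA, hxZ⟩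
  have : Fintype A := Fintype.ofFinite A
  obtain ⟨θ, hθ⟩ := exists_constituent A (isCharacter_character ρ)
    (irr_degree_ne_zero ⟨d, ρ, hρ, rfl⟩)
  obtain ⟨e, σ, hσ, heθ⟩ := θ.2
  have hθ1 : (θ : A → ℂ) 1 = 1 := by
    have hcomm : ∀ a b : A, σ (a * b) = σ (b * a) := by
      intro a b
      have h1 : ρ (((b * a)⁻¹ * (a * b) : A) : G) = 1 := by
        push_cast
        rw [map_mul, hab _ a.2 _ b.2, ← map_mul, inv_mul_cancel, map_one]
      have h2 : σ ((b * a)⁻¹ * (a * b)) = LinearMap.id := by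
        rw [← character_eq_finrank_iff, ← Representation.char_one σ, heθ]
        refine eq_degree_of_constituent (isCharacter_restrict A (isCharacter_character ρ)) ?_ θ.2 hθ
        show LinearMap.trace ℂ _ (ρ _) = LinearMap.trace ℂ _ (ρ ((1 : A) : G))
        rw [h1, Subgroup.coe_one, ρ.map_one]
      have h3 : σ (b * a) * σ ((b * a)⁻¹ * (a * b)) = σ (a * b) := by
        rw [← map_mul, mul_inv_cancel_left]
      rw [h2] at h3
      exact h3.symm
    have hdeg : finrank ℂ (Fin e → ℂ) ∣ (⊤ : Subgroup A).index := by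
      refine degree_dvd_index_of_scalar σ ⊤ fun a _ => ?_
      let T : IntertwiningMap σ σ := ⟨σ a, fun b => by
        rw [← Module.End.mul_eq_comp, ← Module.End.mul_eq_comp, ← map_mul, ← map_mul, hcomm]⟩
      obtain ⟨c, hc⟩ :=
        (IsIrreducible.algebraMap_intertwiningMap_bijective_of_isAlgClosed (ρ := σ)).2 T
      refine ⟨c, ?_⟩
      refine Eq.trans (congrArg IntertwiningMap.toLinearMap hc).symm ?_
      ext v; simp [Algebra.algebraMap_eq_smul_one]
    rw [Subgroup.index_top, Nat.dvd_one] at hdeg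
    rw [← heθ, Representation.char_one, hdeg, Nat.cast_one]
  have hT : inertia A (θ : A → ℂ) ≠ ⊤ := by
    intro htop
    have hinv : ∀ g, conjBy A (θ : A → ℂ) g = (θ : A → ℂ) := fun g =>
      (mem_inertia A).mp (htop ▸ Subgroup.mem_top g)
    have hres := clifford_invariant A ⟨d, ρ, hρ, rfl⟩ θ.2 hinv hθ
    have h1 := congrFun hres 1
    have hx := congrFun hres ⟨x, hxA⟩
    simp only [Pi.smul_apply, smul_eq_mul, hθ1, mul_one, Subgroup.coe_one] at h1 hx
    rw [← h1, Representation.char_one] at hx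
    have hn1 : ‖(θ : A → ℂ) ⟨x, hxA⟩‖ = 1 := by
      rw [← linearHom_apply (isCharacter_of_isIrr θ.2) hθ1]
      refine Complex.norm_eq_one_of_pow_eq_one (n := orderOf (⟨x, hxA⟩ : A)) ?_ (orderOf_pos _).ne'
      rw [← Units.val_pow_eq_pow_val, ← map_pow, pow_orderOf_eq_one, map_one, Units.val_one]
    exact hxZ ((norm_character_eq_iff ρ x).mp (by
      rw [hx, norm_mul, hn1, mul_one, Complex.norm_natCast]))
  have : Fintype (inertia A (θ : A → ℂ)) := Fintype.ofFinite _
  have hAT := le_inertia A (isClassFunction_irr θ)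
  obtain ⟨ψ, hψ, hind, -⟩ := clifford_correspondence_surjective A (inertia A (θ : A → ℂ)) θ.2
    (fun g => mem_inertia A) hAT ⟨d, ρ, hρ, rfl⟩ hθ
  have hlt : Nat.card (inertia A (θ : A → ℂ)) < n := by
    rw [← hn]
    exact lt_of_le_of_ne (Subgroup.card_le_card_group _) fun e => hT (Subgroup.eq_top_of_card_eq _ e)
  let f : inertia A (θ : A → ℂ) →* G ⧸ N := (QuotientGroup.mk' N).comp (inertia A (θ : A → ℂ)).subtype
  haveI := hNq
  haveI : Group.IsNilpotent (inertia A (θ : A → ℂ) ⧸ f.ker) :=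
    CfsgLib.Splitting.isNilpotent_congr (QuotientGroup.quotientKerEquivRange f).symm inferInstance
  have hfab : ∀ a ∈ f.ker, ∀ b ∈ f.ker, a * b = b * a := fun a ha b hb =>
    Subtype.ext (hNab a ((QuotientGroup.eq_one_iff (a : G)).mp ha) b ((QuotientGroup.eq_one_iff (b : G)).mp hb))
  obtain ⟨H, lam, hlam⟩ := ih _ hlt _ f.ker hfab inferInstance rfl ψ hψ
  refine ⟨H.map (inertia A (θ : A → ℂ)).subtype, lam.comp
    (H.equivMapOfInjective _ (inertia A (θ : A → ℂ)).subtype_injective).symm.toMonoidHom, ?_⟩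
  rw [← hind, hlam, indFun_map]
  rfl

end CfsgLib.TwoDegrees
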