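import Cfsg.Agent.S4456
import Cfsg.Agent.Lib.Char.ItoMichler
import Cfsg.Agent.Lib.Char.Counting
import Cfsg.Agent.Lib.Char.Kernel
import Cfsg.Agent.Lib.TwoDegrees.Monomial

/-!
# Groups with two character degrees
-/

set_option autoImplicit false
set_option linter.style.haveILetI false

namespace CfsgLib.TwoDegrees

open Cfsg CfsgLib.Char
open scoped ComplexConjugate CfsgLib.Char commutatorElement

universe u

variable {G : Type u} [Group G] [Finite G] {m : ℕ}
  (hcd : ∀ χ : IrrCharacter G, charDegree (χ : G → ℂ) = 1 ∨ charDegree (χ : G → ℂ) = m)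

include hcd

theorem degree_cases (χ : IrrCharacter G) : (χ : G → ℂ) 1 = (1 : ℕ) ∨ (χ : G → ℂ) 1 = (m : ℕ) := by
  obtain ⟨d, hd, -⟩ := exists_degree_dvd_card χ.2
  rcases hcd χ with h | h <;> rw [Extraspecial.charDegree_eq hd] at h <;> subst h
  · exact .inl hd
  · exact .inr hd

/-- The abelian normal Hall subgroup with nilpotent quotient. -/
theorem exists_abelian_hall (hm0 : m ≠ 0) :
    ∃ (N : Subgroup G) (_ : N.Normal), (∀ a ∈ N, ∀ b ∈ N, a * b = b * a) ∧
      (Nat.card N).Coprime m ∧ Group.IsNilpotent (G ⧸ N) ∧ (Nat.card N).Coprime N.index := by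
  classical
  have hex : ∀ p : m.primeFactors, ∃ N : Subgroup G, N.Normal ∧ (Nat.card N).Coprime p.1 ∧
      ∃ k, N.index = p.1 ^ k := fun p =>
    Cfsg.Agent.S4456.result p.1 (Nat.prime_of_mem_primeFactors p.2) fun χ h1 => by
      rw [(hcd χ).resolve_left h1]
      exact Nat.dvd_of_mem_primeFactors p.2
  choose K hKn hKc k hK using hex
  haveI := hKn
  let f : G →* ∀ p, G ⧸ K p := MonoidHom.pi fun p => QuotientGroup.mk' (K p)
  have hker : ∀ p, f.ker ≤ K p := fun p g hg => by
    have := congrFun (MonoidHom.mem_ker.mp hg) p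
    exact (QuotientGroup.eq_one_iff g).mp this
  have hcop : (Nat.card f.ker).Coprime m := by
    refine Nat.coprime_of_dvd fun q hq hqN hqm => ?_
    have hq' : q ∈ m.primeFactors := Nat.mem_primeFactors.mpr ⟨hq, hqm, hm0⟩
    exact (hq.coprime_iff_not_dvd.mp (hKc ⟨q, hq'⟩).symm)
      (hqN.trans (Subgroup.card_dvd_of_le (hker ⟨q, hq'⟩)))
  haveI : Fintype G := Fintype.ofFinite G
  haveI : Fintype f.ker := Fintype.ofFinite _
  have hidx : (Nat.card f.ker).Coprime f.ker.index := by
    refine Nat.Coprime.coprime_dvd_right ?_ (Nat.Coprime.prod_right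
      (t := (Finset.univ : Finset m.primeFactors)) (s := fun p => Nat.card (G ⧸ K p)) fun p _ => ?_)
    · rw [Subgroup.index_ker, ← Nat.card_pi]
      exact Subgroup.card_subgroup_dvd_card _
    · rw [← Subgroup.index, hK p]
      exact ((hKc p).coprime_dvd_left (Subgroup.card_dvd_of_le (hker p))).pow_right _
  refine ⟨f.ker, f.normal_ker, fun a ha b hb => ?_, hcop, ?_, hidx⟩
  · have hlin : ∀ θ : IrrCharacter f.ker, (θ : f.ker → ℂ) 1 = 1 := by
      intro θ
      obtain ⟨d, hd, -, hdvd⟩ := exists_degree_dvd_card θ.2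
      rw [hd]
      norm_cast
      refine Nat.eq_one_iff_not_exists_prime_dvd.mpr fun q hq hqd => ?_
      refine ItoMichler.degrees_normal (p := q) f.ker (fun χ e he hqe => ?_) θ d hd hqd
      rcases degree_cases hcd χ with h | h <;> rw [he] at h
      · rw [Nat.cast_injective h] at hqe; exact hq.not_dvd_one hqe
      · rw [Nat.cast_injective h] at hqe
        exact hq.not_dvd_one (hcop ▸ Nat.dvd_gcd (hqd.trans hdvd) hqe)
    have h1 : (⟨a, ha⟩ : f.ker) * ⟨b, hb⟩ * ((⟨b, hb⟩ : f.ker) * ⟨a, ha⟩)⁻¹ = 1 := by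
      refine eq_one_of_forall_irr fun θ => ?_
      have hl := fun x y => linear_mul (isCharacter_of_isIrr θ.2) (hlin θ) x y
      have hinv : ∀ x, (θ : f.ker → ℂ) x⁻¹ * (θ : f.ker → ℂ) x = 1 := fun x => by
        rw [← hl, inv_mul_cancel, hlin]
      rw [mul_inv_rev, hl, hl, hl, hlin]
      linear_combination ((θ : f.ker → ℂ) (⟨b, hb⟩ : f.ker)⁻¹ * (θ : f.ker → ℂ) ⟨b, hb⟩) * hinv ⟨a, ha⟩ +
        hinv ⟨b, hb⟩
    exact congrArg Subtype.val (mul_inv_eq_one.mp h1)
  · haveI : ∀ p, Group.IsNilpotent (G ⧸ K p) := fun p => by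
      haveI := Fact.mk (Nat.prime_of_mem_primeFactors p.2)
      exact (IsPGroup.of_card (n := k p) (by rw [← Subgroup.index, hK p])).isNilpotent
    exact CfsgLib.Splitting.isNilpotent_congr (QuotientGroup.quotientKerEquivRange f).symm inferInstance

/-- Every irreducible character is induced from a linear character of a subgroup of index one or
`m` containing the derived subgroup. -/
theorem exists_monomial (hm0 : m ≠ 0) (hm1 : m ≠ 1) [Fintype G] (χ : IrrCharacter G)
    (hχ : (χ : G → ℂ) 1 ≠ 1) :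
    ∃ (H : Subgroup G) (lam : H →* ℂˣ), (χ : G → ℂ) = indFun H (fun h => (lam h : ℂ)) ∧
      H.index = m ∧ commutator G ≤ H := by
  classical
  obtain ⟨N, hN, hNab, -, hNq, -⟩ := exists_abelian_hall hcd hm0
  obtain ⟨H, lam, he⟩ := monomial_aux _ G N hNab hNq rfl (χ : G → ℂ) χ.2
  have h1 : (χ : G → ℂ) 1 = (H.index : ℂ) := by
    rw [he, indFun_one, map_one, Units.val_one, mul_one]
  have hidx : H.index = m := by
    rcases degree_cases hcd χ with h | h
    · exact absurd (h.trans Nat.cast_one) hχ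
    · rw [h] at h1; exact (Nat.cast_injective h1).symm
  refine ⟨H, lam, he, hidx, fun g hg => ?_⟩
  haveI : Fintype H := Fintype.ofFinite H
  set f := indFun H (fun _ => (1 : ℂ)) with hf
  have hfc : IsCharacter G f := isCharacter_indFun H isCharacter_one
  obtain ⟨a, ha⟩ := exists_multiplicities hfc
  choose d hd hdd using fun ψ : IrrCharacter G => exists_degree_dvd_card ψ.2
  let one : IrrCharacter G := ⟨fun _ => 1, isIrrCharacter_one⟩
  have hone : a one = 1 := by
    have h2 : classInner f (one : G → ℂ) = 1 := by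
      rw [hf, frobenius_reciprocity H _ (isClassFunction_irr one)]
      exact classInner_irr_self (isIrrCharacter_one (G := H))
    rw [ha, classInner_sum_smul_irr] at h2
    exact_mod_cast h2
  have hd1 : d one = 1 := Nat.cast_eq_one.mp (hd one).symm
  have hsum : ∑ ψ, a ψ * d ψ = m := by
    have h2 : f 1 = (m : ℂ) := by rw [hf, indFun_one, mul_one, hidx]
    rw [ha, Finset.sum_apply] at h2
    simp only [Pi.smul_apply, smul_eq_mul, hd] at h2
    exact_mod_cast h2
  have hlin : ∀ ψ, a ψ ≠ 0 → (ψ : G → ℂ) 1 = 1 := by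
    intro ψ hψ
    rcases degree_cases hcd ψ with h | h
    · exact h.trans Nat.cast_one
    · exfalso
      have hdm : d ψ = m := by rw [hd] at h; exact Nat.cast_injective h
      have hne : one ≠ ψ := fun e => hm1 (by rw [← hdm, ← e, hd1])
      have := Finset.sum_le_sum_of_subset (f := fun ψ => a ψ * d ψ) (Finset.subset_univ {one, ψ})
      rw [Finset.sum_pair hne, hone, hd1, hdm, hsum] at this
      have : m ≤ a ψ * m := Nat.le_mul_of_pos_left m (Nat.pos_of_ne_zero hψ)
      omega
  have hfg : f g = (m : ℂ) := by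
    rw [← hsum, ha, Finset.sum_apply]
    push_cast
    refine Finset.sum_congr rfl fun ψ _ => ?_
    rw [Pi.smul_apply, smul_eq_mul]
    by_cases hψ : a ψ = 0
    · simp [hψ]
    · rw [← hd, hlin ψ hψ]
      congr 1
      have hker := Abelianization.commutator_subset_ker
        (linearHom (isCharacter_of_isIrr ψ.2) (hlin ψ hψ)) hg
      rw [← linearHom_apply (isCharacter_of_isIrr ψ.2) (hlin ψ hψ), MonoidHom.mem_ker.mp hker, Units.val_one]
  have hcount : (Finset.univ.filter fun x : G => x⁻¹ * g * x ∈ H).card = Fintype.card G := by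
    have h2 : f g = (Nat.card H : ℂ)⁻¹ * (Finset.univ.filter fun x : G => x⁻¹ * g * x ∈ H).card := by
      simp only [hf, indFun]
      congr 1
      rw [Finset.card_filter, Nat.cast_sum]
      refine Finset.sum_congr rfl fun x _ => ?_
      by_cases hx : x⁻¹ * g * x ∈ H
      · rw [extendByZero_mem _ _ hx, if_pos hx, Nat.cast_one]
      · rw [extendByZero_notMem _ _ hx, if_neg hx, Nat.cast_zero]
    rw [hfg, eq_inv_mul_iff_mul_eq₀ (Nat.cast_ne_zero.mpr Nat.card_pos.ne'), ← hidx, ← Nat.cast_mul,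
      Subgroup.card_mul_index, Nat.card_eq_fintype_card] at h2
    exact_mod_cast h2.symm
  have := (Finset.card_eq_iff_eq_univ _).mp hcount
  have h3 := Finset.mem_univ (1 : G)
  rw [← this, Finset.mem_filter] at h3
  simpa using h3.2

theorem derived_abelian (hm0 : m ≠ 0) (hm1 : m ≠ 1) :
    ∀ a ∈ commutator G, ∀ b ∈ commutator G, a * b = b * a := by
  classical
  haveI : Fintype G := Fintype.ofFinite G
  intro a ha b hb
  refine commutatorElement_eq_one_iff_mul_comm.mp (eq_one_of_forall_irr fun χ => ?_)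
  by_cases h1 : (χ : G → ℂ) 1 = 1
  · have hker := Abelianization.commutator_subset_ker (linearHom (isCharacter_of_isIrr χ.2) h1)
      (Subgroup.commutator_mem_commutator (Subgroup.mem_top a) (Subgroup.mem_top b))
    rw [h1, ← linearHom_apply (isCharacter_of_isIrr χ.2) h1, MonoidHom.mem_ker.mp hker, Units.val_one]
  obtain ⟨H, lam, he, -, hle⟩ := exists_monomial hcd hm0 hm1 χ h1
  rw [he]
  simp only [indFun]
  congr 1
  refine Finset.sum_congr rfl fun x _ => ?_
  have hn : (commutator G).Normal := inferInstance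
  have ha' : x⁻¹ * a * x ∈ commutator G := by simpa using hn.conj_mem a ha x⁻¹
  have hb' : x⁻¹ * b * x ∈ commutator G := by simpa using hn.conj_mem b hb x⁻¹
  have e : x⁻¹ * ⁅a, b⁆ * x = ((⁅(⟨_, hle ha'⟩ : H), ⟨_, hle hb'⟩⁆ : H) : G) := by
    simp only [commutatorElement_def, Subgroup.coe_mul, Subgroup.coe_inv]; group
  have e1 : x⁻¹ * 1 * x = ((1 : H) : G) := by simp
  rw [e, e1, extendByZero_coe, extendByZero_coe]
  refine congrArg Units.val ?_
  rw [map_commutatorElement, map_one, commutatorElement_eq_one_iff_mul_comm]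
  exact mul_comm _ _

end CfsgLib.TwoDegrees
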