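import Cfsg.Agent.Lib.TwoDegrees.Basic
import Cfsg.Agent.Lib.Char.AbelianQuotient
import Cfsg.Agent.Lib.Char.Clifford
import Cfsg.Agent.Lib.Char.Counting
import Cfsg.Agent.Lib.Char.Table

/-!
# The structure of groups with two character degrees
-/

set_option autoImplicit false
set_option linter.style.haveILetI false
set_option linter.unusedSectionVars false

namespace CfsgLib.TwoDegrees

open Cfsg CfsgLib.Char
open scoped ComplexConjugate CfsgLib.Char commutatorElement

universe u

variable {G : Type u} [Group G] (N : Subgroup G) [hN : N.Normal]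

/-- The right action of the group on homomorphisms of a normal subgroup. -/
def act (g : G) (l : N →* ℂˣ) : N →* ℂˣ := l.comp (MulAut.conjNormal g : MulAut N).toMonoidHom

theorem act_apply (g : G) (l : N →* ℂˣ) (n : N) :
    act N g l n = l ⟨g * n * g⁻¹, hN.conj_mem _ n.2 g⟩ := by
  show l (MulAut.conjNormal g n) = _
  congr 1

theorem act_one (l : N →* ℂˣ) : act N 1 l = l := by ext n; simp [act]

theorem act_act (a b : G) (l : N →* ℂˣ) : act N b (act N a l) = act N (a * b) l := by
  ext n; simp [act, map_mul]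

theorem act_hom (g : G) (a b : N →* ℂˣ) : act N g (a * b) = act N g a * act N g b := rfl

theorem act_inv (g : G) (a : N →* ℂˣ) : act N g a⁻¹ = (act N g a)⁻¹ := rfl

/-- The stabiliser. -/
def stab (l : N →* ℂˣ) : Subgroup G where
  carrier := {g | act N g l = l}
  one_mem' := act_one N l
  mul_mem' := fun {a b} (ha : act N a l = l) (hb : act N b l = l) => by
    show act N (a * b) l = l
    rw [← act_act, ha, hb]
  inv_mem' := fun {a} (ha : act N a l = l) => by
    show act N a⁻¹ l = l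
    nth_rw 1 [← ha]
    rw [act_act, mul_inv_cancel, act_one]

theorem mem_stab {l : N →* ℂˣ} {g : G} : g ∈ stab N l ↔ act N g l = l := Iff.rfl

theorem mem_stab_iff_conjBy {l : N →* ℂˣ} {g : G} :
    g ∈ stab N l ↔ conjBy N (fun n => (l n : ℂ)) g = fun n => (l n : ℂ) := by
  constructor
  · intro h
    funext n
    have := congrArg (fun f : N →* ℂˣ => (f n : ℂ)) (mem_stab N |>.mp h)
    simp only [act_apply] at this
    exact this
  · intro h
    refine mem_stab N |>.mpr (MonoidHom.ext fun n => Units.ext ?_)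
    rw [act_apply]
    exact congrFun h n

variable [Finite G] (hab : ∀ a ∈ N, ∀ b ∈ N, a * b = b * a)

include hab

theorem le_stab (l : N →* ℂˣ) : N ≤ stab N l := fun g hg => by
  refine mem_stab N |>.mpr (MonoidHom.ext fun n => ?_)
  rw [act_apply]
  congr 1
  exact Subtype.ext (show g * n * g⁻¹ = n by rw [hab g hg n n.2, mul_inv_cancel_right])

/-- An element fixing its own displacement of a character displaces it trivially. -/
theorem displacement_eq_one (hcop : (Nat.card N).Coprime N.index) (t : G) (w : N →* ℂˣ)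
    (h : act N t (act N t w * w⁻¹) = act N t w * w⁻¹) : act N t w * w⁻¹ = 1 := by
  set z := act N t w * w⁻¹ with hz
  have ht : ∀ n, act N t w n = z n * w n := fun n => (inv_mul_cancel_right _ _).symm
  have hzt : ∀ n : N, z (MulAut.conjNormal t n) = z n := fun n => DFunLike.congr_fun h n
  have hk : ∀ (k : ℕ) (n : N), act N (t ^ k) w n = z n ^ k * w n := by
    intro k
    induction k with
    | zero => intro n; rw [pow_zero, pow_zero, one_mul, act_one]
    | succ k ih =>
      intro n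
      rw [pow_succ, ← act_act]
      show act N (t ^ k) w (MulAut.conjNormal t n) = _
      rw [ih, hzt, pow_succ, show w (MulAut.conjNormal t n) = act N t w n from rfl, ht, mul_assoc]
  have hmem : t ^ N.index ∈ N := by
    rw [← QuotientGroup.eq_one_iff, QuotientGroup.mk_pow, Subgroup.index, pow_card_eq_one']
  refine MonoidHom.ext fun n => ?_
  have h2 : z n ^ Nat.card N = 1 := by rw [← map_pow, pow_card_eq_one', map_one]
  have h3 : z n ^ N.index = 1 := by
    have := hk N.index n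
    rw [mem_stab N |>.mp (le_stab N hab w hmem)] at this
    exact mul_eq_right.mp this.symm
  exact orderOf_eq_one_iff.mp (Nat.eq_one_of_dvd_coprimes hcop
    (orderOf_dvd_of_pow_eq_one h2) (orderOf_dvd_of_pow_eq_one h3))

omit hab

/-- Two stabilisers of the same index coincide. -/
theorem stab_eq (hab : ∀ a ∈ N, ∀ b ∈ N, a * b = b * a) (hcop : (Nat.card N).Coprime N.index) {m : ℕ}
    (hidx : ∀ l, stab N l ≠ ⊤ → (stab N l).index = m ∧ commutator G ≤ stab N l)
    {l u : N →* ℂˣ} (hl : stab N l ≠ ⊤) (hu : stab N u ≠ ⊤) : stab N l = stab N u := by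
  have hG' : ∀ (v : N →* ℂˣ) (c : G), c ∈ commutator G → act N c v = v := fun v c hc => by
    by_cases h : stab N v = ⊤
    · exact mem_stab N |>.mp (h ▸ Subgroup.mem_top c)
    · exact mem_stab N |>.mp ((hidx v h).2 hc)
  have hswap : ∀ (a b : G) (v : N →* ℂˣ), act N b (act N a v) = act N a (act N b v) := fun a b v => by
    rw [act_act, act_act, show a * b = ⁅a, b⁆ * (b * a) by rw [commutatorElement_def]; group, ← act_act,
      hG' v _ (Subgroup.commutator_mem_commutator (Subgroup.mem_top a) (Subgroup.mem_top b))]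
  by_contra hne
  obtain ⟨t, htl, htu⟩ : ∃ t, t ∈ stab N l ∧ t ∉ stab N u := by
    by_contra hh
    push Not at hh
    refine hne (Subgroup.eq_of_le_of_card_ge hh ?_)
    have h1 := (stab N l).card_mul_index
    have h2 := (stab N u).card_mul_index
    rw [(hidx l hl).1] at h1
    rw [(hidx u hu).1] at h2
    have hm : 0 < m := (hidx l hl).1 ▸ Nat.pos_of_ne_zero Subgroup.index_ne_zero_of_finite
    exact (Nat.eq_of_mul_eq_mul_right hm (h2.trans h1.symm)).le
  set u' := act N t u * u⁻¹ with hu'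
  have hu'1 : u' ≠ 1 := fun h => htu (mem_stab N |>.mpr (MonoidHom.ext fun n => mul_inv_eq_one.mp (DFunLike.congr_fun h n)))
  have hle : stab N u ≤ stab N u' := fun s hs => by
    refine mem_stab N |>.mpr ?_
    rw [hu', act_hom, act_inv, hswap t s, mem_stab N |>.mp hs]
  have hu'ne : stab N u' ≠ ⊤ := fun h => hu'1
    (displacement_eq_one N hab hcop t u (mem_stab N |>.mp (h ▸ Subgroup.mem_top t)))
  have heq : stab N u = stab N u' := by
    refine Subgroup.eq_of_le_of_card_ge hle ?_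
    have h1 := (stab N u').card_mul_index
    have h2 := (stab N u).card_mul_index
    rw [(hidx _ hu'ne).1] at h1
    rw [(hidx u hu).1] at h2
    have hm : 0 < m := (hidx u hu).1 ▸ Nat.pos_of_ne_zero Subgroup.index_ne_zero_of_finite
    exact (Nat.eq_of_mul_eq_mul_right hm (h1.trans h2.symm)).le
  have hinter : stab N (l * u') ≤ stab N l ⊓ stab N u := fun s hs => by
    have h := mem_stab N |>.mp hs
    rw [act_hom] at h
    have e : act N s l * l⁻¹ = u' * (act N s u')⁻¹ := by
      refine MonoidHom.ext fun n => ?_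
      have hn : act N s l n * act N s u' n = l n * u' n := DFunLike.congr_fun h n
      show act N s l n * (l n)⁻¹ = u' n * (act N s u' n)⁻¹
      rw [eq_mul_inv_iff_mul_eq, mul_right_comm, hn, mul_comm (l n), mul_inv_cancel_right]
    have hfix : act N t (act N s l * l⁻¹) = act N s l * l⁻¹ := by
      rw [act_hom, act_inv, hswap s t, mem_stab N |>.mp htl]
    have e2 : u' * (act N s u')⁻¹ = act N t (u * (act N s u)⁻¹) * (u * (act N s u)⁻¹)⁻¹ := by
      simp only [hu', act_hom, act_inv, hswap t s]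
      refine MonoidHom.ext fun n => ?_
      simp only [MonoidHom.mul_apply, MonoidHom.inv_apply, mul_inv_rev, inv_inv]
      first | exact mul_left_comm _ _ _ | (simp only [mul_comm, mul_left_comm, mul_assoc])
    have hone : u' * (act N s u')⁻¹ = 1 := by
      rw [e2]
      exact displacement_eq_one N hab hcop t _ (by rw [← e2, ← e, hfix])
    refine ⟨mem_stab N |>.mpr (MonoidHom.ext fun n => mul_inv_eq_one.mp
      (DFunLike.congr_fun (e.trans hone) n)), ?_⟩
    rw [heq]
    exact mem_stab N |>.mpr (MonoidHom.ext fun n => (mul_inv_eq_one.mp (DFunLike.congr_fun hone n)).symm)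
  by_cases htop : stab N (l * u') = ⊤
  · rw [htop] at hinter
    exact hl (top_le_iff.mp (hinter.trans inf_le_left))
  · have h1 : stab N (l * u') = stab N l := by
      refine Subgroup.eq_of_le_of_card_ge (hinter.trans inf_le_left) ?_
      have h1 := (stab N (l * u')).card_mul_index
      have h2 := (stab N l).card_mul_index
      rw [(hidx _ htop).1] at h1
      rw [(hidx l hl).1] at h2
      have hm : 0 < m := (hidx l hl).1 ▸ Nat.pos_of_ne_zero Subgroup.index_ne_zero_of_finite
      exact (Nat.eq_of_mul_eq_mul_right hm (h2.trans h1.symm)).le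
    exact htu ((h1 ▸ hinter).trans inf_le_right htl)

section Main

variable {m : ℕ} (hcd : ∀ χ : IrrCharacter G, charDegree (χ : G → ℂ) = 1 ∨ charDegree (χ : G → ℂ) = m)

include hcd

theorem stab_data (hm1 : m ≠ 1) (hm0 : m ≠ 0) (hab : ∀ a ∈ N, ∀ b ∈ N, a * b = b * a)
    (hcopm : (Nat.card N).Coprime m) {Q : Subgroup G} (hQ : Subgroup.IsComplement' N Q) (l : N →* ℂˣ)
    (hl : stab N l ≠ ⊤) :
    (stab N l).index = m ∧ commutator G ≤ stab N l ∧ ∀ a ∈ stab N l, ∀ b ∈ stab N l, ⁅a, b⁆ ∈ N := by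
  classical
  haveI : Fintype G := Fintype.ofFinite G
  haveI : Fintype N := Fintype.ofFinite N
  set T := stab N l with hTdef
  haveI : Fintype T := Fintype.ofFinite T
  have hdec : ∀ t : T, ∃ q ∈ Q, (t : G) * q⁻¹ ∈ N := fun t => by
    obtain ⟨⟨⟨n, hn⟩, ⟨q, hq⟩⟩, h⟩ := hQ.2 (t : G)
    refine ⟨q, hq, ?_⟩
    have h' : n * q = (t : G) := h
    rw [← h', mul_inv_cancel_right]
    exact hn
  choose q hqQ hqN using hdec
  have huniq : ∀ (t : T) (q' : G), q' ∈ Q → (t : G) * q'⁻¹ ∈ N → q' = q t := fun t q' h1 h2 => by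
    have e := hQ.1 (a₁ := (⟨_, h2⟩, ⟨q', h1⟩)) (a₂ := (⟨_, hqN t⟩, ⟨q t, hqQ t⟩)) (by simp)
    exact congrArg (fun p : N × Q => (p.2 : G)) e
  have hqT : ∀ t : T, q t ∈ T := fun t => by
    have := mul_mem (inv_mem (le_stab N hab l (hqN t))) t.2
    simpa using this
  have hqmul : ∀ a b : T, q (a * b) = q a * q b := fun a b => by
    refine (huniq (a * b) _ (mul_mem (hqQ a) (hqQ b)) ?_).symm
    have : ((a * b : T) : G) * (q a * q b)⁻¹ =
        ((a : G) * (q a)⁻¹) * (q a * ((b : G) * (q b)⁻¹) * (q a)⁻¹) := by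
      rw [Subgroup.coe_mul]; group
    rw [this]
    exact mul_mem (hqN a) (hN.conj_mem _ (hqN b) _)
  let lt : T →* ℂˣ := MonoidHom.mk' (fun t => l ⟨_, hqN t⟩) fun a b => by
    have h1 : (⟨_, hqN (a * b)⟩ : N) =
        ⟨_, hqN a⟩ * ⟨q a * ((b : G) * (q b)⁻¹) * (q a)⁻¹, hN.conj_mem _ (hqN b) _⟩ := by
      refine Subtype.ext ?_
      show ((a * b : T) : G) * (q (a * b))⁻¹ = _
      rw [hqmul, Subgroup.coe_mul, Subgroup.coe_mul]; group
    show l ⟨_, hqN (a * b)⟩ = l ⟨_, hqN a⟩ * l ⟨_, hqN b⟩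
    rw [h1, map_mul]
    congr 1
    have := DFunLike.congr_fun (mem_stab N |>.mp (hqT a)) ⟨_, hqN b⟩
    rwa [act_apply] at this
  have hres : ∀ n : N, lt ⟨n, le_stab N hab l n.2⟩ = l n := fun n => by
    have h1 : q ⟨(n : G), le_stab N hab l n.2⟩ = 1 :=
      (huniq _ 1 (one_mem Q) (by simpa using n.2)).symm
    show l ⟨_, hqN _⟩ = l n
    congr 1
    refine Subtype.ext ?_
    show (n : G) * (q _)⁻¹ = n
    rw [h1, inv_one, mul_one]
  set θ : N → ℂ := fun n => (l n : ℂ) with hθdef
  have hθ : IsIrrCharacter N θ := isIrrCharacter_monoidHom l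
  have hT : ∀ g, g ∈ T ↔ conjBy N θ g = θ := fun g => mem_stab_iff_conjBy N
  have hNT : N ≤ T := le_stab N hab l
  let Qn := (N.subgroupOf T)
  have key : ∀ β : IrrCharacter (T ⧸ Qn), ∃ χ : IrrCharacter G,
      (χ : G → ℂ) = indFun T (fun t => (lt t : ℂ) * (β : T ⧸ Qn → ℂ) t) ∧
      classInner (fun n : N => (χ : G → ℂ) n) θ ≠ 0 ∧
      (χ : G → ℂ) 1 = (T.index : ℂ) * (β : T ⧸ Qn → ℂ) 1 := fun β => by
    have hψ := isIrrCharacter_linear_mul
      (isIrrCharacter_comp (f := QuotientGroup.mk' Qn) (QuotientGroup.mk'_surjective _) β.2) lt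
    have hrs : resTo N T hNT (fun t => (lt t : ℂ) * (β : T ⧸ Qn → ℂ) (QuotientGroup.mk' Qn t)) =
        (β : T ⧸ Qn → ℂ) 1 • θ := by
      funext n
      have h1 : QuotientGroup.mk' Qn ⟨(n : G), hNT n.2⟩ = 1 := (QuotientGroup.eq_one_iff _).mpr n.2
      simp only [resTo, Pi.smul_apply, smul_eq_mul, hθdef, h1, hres]
      ring
    have hcon : classInner (resTo N T hNT
        (fun t => (lt t : ℂ) * (β : T ⧸ Qn → ℂ) (QuotientGroup.mk' Qn t))) θ ≠ 0 := by
      rw [hrs, classInner_smul_left, classInner_irr_self hθ, mul_one]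
      exact irr_degree_ne_zero β.2
    obtain ⟨h1, h2, -⟩ := clifford_correspondence N T hθ hT hNT hψ hcon
    refine ⟨⟨_, h1⟩, rfl, h2 ▸ hcon, ?_⟩
    show indFun T _ 1 = _
    rw [indFun_one, map_one, map_one, Units.val_one, one_mul]
  have hT1 : 1 < T.index := by
    have h0 : T.index ≠ 0 := Subgroup.index_ne_zero_of_finite
    have h1 : T.index ≠ 1 := fun h => hl (Subgroup.index_eq_one.mp h)
    omega
  have hbeta : ∀ β : IrrCharacter (T ⧸ Qn), ∃ d : ℕ, (β : T ⧸ Qn → ℂ) 1 = d ∧ T.index * d = m := fun β => by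
    obtain ⟨d, hd0, hd⟩ := exists_nat_degree_irr β.2
    obtain ⟨χ, -, -, h1⟩ := key β
    rw [hd, ← Nat.cast_mul] at h1
    refine ⟨d, hd, ?_⟩
    rcases degree_cases hcd χ with h | h <;> rw [h1] at h
    · exfalso
      have h2 : T.index * d = 1 := Nat.cast_injective h
      have := Nat.eq_one_of_mul_eq_one_right h2
      omega
    · exact Nat.cast_injective h
  have hidx : T.index = m := by
    obtain ⟨d, hd, hdm⟩ := hbeta ⟨fun _ => 1, isIrrCharacter_one⟩
    rw [Nat.cast_eq_one.mp hd.symm, mul_one] at hdm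
    exact hdm
  refine ⟨hidx, fun c hc => ?_, fun a ha b hb => ?_⟩
  · obtain ⟨χ, -, hcon, h1⟩ := key ⟨fun _ => 1, isIrrCharacter_one⟩
    have hne : (χ : G → ℂ) 1 ≠ 1 := by
      rw [h1, mul_one, hidx]
      exact fun h => hm1 (Nat.cast_eq_one.mp h)
    obtain ⟨H, nu, he, hHi, hle⟩ := exists_monomial hcd hm0 hm1 χ hne
    haveI hHn : H.Normal := ⟨fun h hh g => by
      have := mul_mem (hle (Subgroup.commutator_mem_commutator (Subgroup.mem_top g) (Subgroup.mem_top h))) hh
      simpa [commutatorElement_def, mul_assoc] using this⟩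
    haveI : Fintype H := Fintype.ofFinite H
    have hNH : N ≤ H := fun n hn => by
      rw [← QuotientGroup.eq_one_iff]
      refine orderOf_eq_one_iff.mp (Nat.eq_one_of_dvd_coprimes hcopm
        ((orderOf_map_dvd (QuotientGroup.mk' H) n).trans (Subgroup.orderOf_dvd_natCard N hn)) ?_)
      rw [← hHi, Subgroup.index]
      exact orderOf_dvd_natCard _
    let nuN : N →* ℂˣ := nu.comp (Subgroup.inclusion hNH)
    have hval : (fun n : N => (χ : G → ℂ) n) =
        (Nat.card H : ℂ)⁻¹ • ∑ x : G, fun n : N => ((act N x⁻¹ nuN n : ℂˣ) : ℂ) := by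
      funext n
      rw [he, Pi.smul_apply, Finset.sum_apply, smul_eq_mul]
      simp only [indFun]
      congr 1
      refine Finset.sum_congr rfl fun x _ => ?_
      have hm : x⁻¹ * (n : G) * x ∈ H := hNH (by simpa using hN.conj_mem _ n.2 x⁻¹)
      rw [extendByZero_mem _ _ hm, act_apply]
      refine congrArg (fun y : H => ((nu y : ℂˣ) : ℂ)) ?_
      exact Subtype.ext (show x⁻¹ * (n : G) * x = x⁻¹ * (n : G) * x⁻¹⁻¹ by rw [inv_inv])
    obtain ⟨x, hx⟩ : ∃ x : G, act N x⁻¹ nuN = l := by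
      by_contra hno
      push Not at hno
      refine hcon ?_
      rw [hval, classInner_smul_left, classInner_sum_left, Finset.sum_eq_zero, mul_zero]
      intro x _
      refine classInner_irr_ne (isIrrCharacter_monoidHom _) hθ fun h => hno x ?_
      exact MonoidHom.ext fun n => Units.ext (congrFun h n)
    refine mem_stab N |>.mpr ?_
    have hmem : x⁻¹ * c * x ∈ H := hle (by simpa using (inferInstance : (commutator G).Normal).conj_mem c hc x⁻¹)
    have hfix : act N (x⁻¹ * c * x) nuN = nuN := by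
      refine MonoidHom.ext fun n => ?_
      rw [act_apply]
      show nu (Subgroup.inclusion hNH ⟨_, _⟩) = nu (Subgroup.inclusion hNH n)
      have e : Subgroup.inclusion hNH (⟨(x⁻¹ * c * x) * n * (x⁻¹ * c * x)⁻¹, hN.conj_mem _ n.2 _⟩ : N) =
          (⟨_, hmem⟩ : H) * Subgroup.inclusion hNH n * (⟨_, hmem⟩ : H)⁻¹ := Subtype.ext rfl
      rw [e, map_mul, map_mul, map_inv, mul_right_comm, mul_inv_cancel, one_mul]
    rw [← hx, act_act, show x⁻¹ * c = (x⁻¹ * c * x) * x⁻¹ by group, ← act_act, hfix]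
  · have hcomm : ∀ u v : T ⧸ Qn, u * v = v * u := fun u v => by
      have hlin : ∀ β : IrrCharacter (T ⧸ Qn), (β : T ⧸ Qn → ℂ) 1 = 1 := fun β => by
        obtain ⟨d, hd, hdm⟩ := hbeta β
        rw [hidx] at hdm
        rw [hd, Nat.eq_of_mul_eq_mul_left (Nat.pos_of_ne_zero hm0) (hdm.trans (mul_one m).symm), Nat.cast_one]
      refine commutatorElement_eq_one_iff_mul_comm.mp (eq_one_of_forall_irr fun β => ?_)
      have hc := isCharacter_of_isIrr β.2
      rw [hlin β, ← linearHom_apply hc (hlin β), map_commutatorElement,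
        commutatorElement_eq_one_iff_mul_comm.mpr (mul_comm _ _), Units.val_one]
    have h1 : (⁅(⟨a, ha⟩ : T), ⟨b, hb⟩⁆ : T) ∈ Qn := by
      rw [← QuotientGroup.eq_one_iff, ← QuotientGroup.mk'_apply, map_commutatorElement,
        commutatorElement_eq_one_iff_mul_comm]
      exact hcomm _ _
    have h2 := Subgroup.mem_subgroupOf.mp h1
    simpa [commutatorElement_def] using h2

theorem dichotomy (hm1 : m ≠ 1) (hex : ∃ χ : IrrCharacter G, charDegree (χ : G → ℂ) = m) :
    (∃ A : Subgroup G, A.Normal ∧ (∀ a ∈ A, ∀ b ∈ A, a * b = b * a) ∧ A.index = m) ∨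
      Group.IsNilpotent G := by
  classical
  have hm0 : m ≠ 0 := by
    obtain ⟨χ, hχ⟩ := hex
    obtain ⟨d, hd, hpos, -⟩ := exists_degree_dvd_card χ.2
    rw [Extraspecial.charDegree_eq hd] at hχ
    omega
  obtain ⟨N, hN, hNab, hcopm, hNq, hcop⟩ := exists_abelian_hall hcd hm0
  by_cases hcen : N ≤ Subgroup.center G
  · haveI := hNq
    exact Or.inr (Subgroup.isNilpotent_of_ker_le_center (QuotientGroup.mk' N)
      ((QuotientGroup.ker_mk' N).le.trans hcen))
  refine Or.inl ?_
  obtain ⟨Q, hQ⟩ := Subgroup.exists_right_complement'_of_coprime hcop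
  have hsd := fun l hl => stab_data N hcd hm1 hm0 hNab hcopm hQ l hl
  have hsep : ∀ n : N, (∀ l : N →* ℂˣ, l n = 1) → n = 1 := fun n hn => by
    haveI : Fintype N := Fintype.ofFinite N
    refine eq_one_of_forall_irr fun θ => ?_
    have h1 : (θ : N → ℂ) 1 = 1 :=
      degree_one_of_comm (fun a b => Subtype.ext (hNab a a.2 b b.2)) θ
    have hc := isCharacter_of_isIrr θ.2
    rw [h1, ← linearHom_apply hc h1, hn, Units.val_one]
  have hcent : ∀ g : G, (∀ l : N →* ℂˣ, g ∈ stab N l) → ∀ n ∈ N, g * n = n * g := fun g hg n hn => by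
    have h1 : (⟨g * n * g⁻¹, hN.conj_mem n hn g⟩ : N) * (⟨n, hn⟩ : N)⁻¹ = 1 := hsep _ fun l => by
      rw [map_mul, map_inv, mul_inv_eq_one]
      have := DFunLike.congr_fun (mem_stab N |>.mp (hg l)) ⟨n, hn⟩
      rwa [act_apply] at this
    exact mul_inv_eq_iff_eq_mul.mp (congrArg Subtype.val (mul_inv_eq_one.mp h1))
  obtain ⟨l, hl⟩ : ∃ l : N →* ℂˣ, stab N l ≠ ⊤ := by
    by_contra hne
    push Not at hne
    exact hcen fun n hn => Subgroup.mem_center_iff.mpr fun g =>
      hcent g (fun l => hne l ▸ Subgroup.mem_top g) n hn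
  obtain ⟨hidx, hle, hcomm⟩ := hsd l hl
  refine ⟨stab N l, ⟨fun h hh g => ?_⟩, fun a ha b hb => ?_, hidx⟩
  · have := mul_mem (hle (Subgroup.commutator_mem_commutator (Subgroup.mem_top g) (Subgroup.mem_top h))) hh
    simpa [commutatorElement_def, mul_assoc] using this
  have hC : ∀ g ∈ stab N l, ∀ n ∈ N, g * n = n * g := fun g hg => hcent g fun u => by
    by_cases hu : stab N u = ⊤
    · exact hu ▸ Subgroup.mem_top g
    · exact stab_eq N hNab hcop (fun v hv => ⟨(hsd v hv).1, (hsd v hv).2.1⟩) hl hu ▸ hg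
  obtain ⟨⟨⟨n₁, hn₁⟩, ⟨q₁, hq₁⟩⟩, h₁⟩ := hQ.2 a
  obtain ⟨⟨⟨n₂, hn₂⟩, ⟨q₂, hq₂⟩⟩, h₂⟩ := hQ.2 b
  have ha' : n₁ * q₁ = a := h₁
  have hb' : n₂ * q₂ = b := h₂
  have hq1T : q₁ ∈ stab N l := by
    have := mul_mem (inv_mem (le_stab N hNab l hn₁)) ha
    rwa [← ha', inv_mul_cancel_left] at this
  have hq2T : q₂ ∈ stab N l := by
    have := mul_mem (inv_mem (le_stab N hNab l hn₂)) hb
    rwa [← hb', inv_mul_cancel_left] at this
  have hqq : q₁ * q₂ = q₂ * q₁ := by
    refine commutatorElement_eq_one_iff_mul_comm.mp (Subgroup.mem_bot.mp ?_)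
    rw [← hQ.disjoint.eq_bot]
    have hq : ⁅q₁, q₂⁆ ∈ Q := by
      rw [commutatorElement_def]
      exact Q.mul_mem (Q.mul_mem (Q.mul_mem hq₁ hq₂) (Q.inv_mem hq₁)) (Q.inv_mem hq₂)
    exact ⟨hcomm _ hq1T _ hq2T, hq⟩
  have c1 : Commute n₁ n₂ := hNab _ hn₁ _ hn₂
  have c2 : Commute q₁ n₂ := hC _ hq1T _ hn₂
  have c3 : Commute q₂ n₁ := hC _ hq2T _ hn₁
  rw [← ha', ← hb']
  exact ((c1.mul_right c3.symm).mul_left (c2.mul_right hqq)).eq

end Main

end CfsgLib.TwoDegrees
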